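import Groth.Agent.QuotQA27.Basic
import Groth.Agent.GrpSchLib.AntiAffineBC
import Groth.Agent.AGFLib.Regular
import Groth.Agent.AGFLib.InvIdeal
import Groth.Prelude.Def_W4bk4grossh1223Act

/-! Invariants of the translation action and homogeneous spaces of reductive subgroups. -/

set_option autoImplicit false
set_option backward.isDefEq.respectTransparency false
set_option backward.isDefEq.respectTransparency.types false
set_option linter.style.haveILetI false

universe u

open CategoryTheory MonoidalCategory CartesianMonoidalCategory MonObj GrpObj AlgebraicGeometry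
open scoped TensorProduct

namespace Groth.Agent.QuotQA27

open GrpSchLib GrpSchLib.Kunneth GrpSchLib.LineGroups AGFLib

variable {k : Type u} [Field k] [IsAlgClosed k]
  {G H : Over (Spec (CommRingCat.of k))} [GrpObj G] [IsAffine G.left] [Smooth G.hom] [GrpObj H]
  [IsAffine H.left] [Smooth H.hom]

/-- The fixed functions of the translation action are the invariant functions. -/
theorem mem_fixed_translMod_iff (i : H ⟶ G) [IsMonHom i] (f : Fn G) :
    f ∈ (translMod i).fixedSubalgebra (translMod_isMult i) (𝟙 H) ↔ AGF.IsRTransInv i f := by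
  constructor
  · intro hf
    refine isRTransInv_of_pts i _ fun x => ?_
    have h2 := hf k x
    rw [Category.comp_id, translMod_apply] at h2
    have h3 := congrArg (prodFn k G) h2
    rw [prodFn_transl, prodFn_tmul, map_one, map_one, _root_.one_mul, ev_ev, shift, lift_snd] at h3
    have h4 := congrArg (ev (lift (toPt G) (𝟙 G))) h3
    rw [ev_ev, ev_ev, MonObj.comp_mul, lift_snd, lift_fst_assoc, ev_id] at h4
    exact h4
  · intro hf B _ _ h
    rw [Category.comp_id, translMod_apply]
    apply (prodFn B G).injective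
    rw [prodFn_transl, prodFn_tmul, map_one, map_one, _root_.one_mul, ev_ev, shift, lift_snd]
    have h1 := (isRTransInv_iff i f).1 hf _ (snd (VecGrp.pt k B) G) (fst (VecGrp.pt k B) G ≫ h)
    rwa [Category.assoc] at h1

/-- The homogeneous space of a reductive subgroup is affine as soon as it is quasi-affine. -/
theorem isAffine_of_quotSurj {X : Over (Spec (CommRingCat.of k))} {a : AlgGrp.Action G X}
    {o : 𝟙_ (Over (Spec (CommRingCat.of k))) ⟶ X} {i : H ⟶ G} [IsMonHom i] (hX : AGF.IsQuotient i X a o)
    [X.left.IsQuasiAffine] (hH : VecGrp.IsReductiveGrp k H) (thmAbi : AGF.ReductiveQuotSurj k) :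
    IsAffine X.left := by
  haveI := hX.2.2.1
  haveI : Epi (a.orbitMap o).left := by
    haveI := hX.2.1
    obtain ⟨_, _⟩ := QuotProper.quot_orbit_qc hX
    infer_instance
  haveI : IsReduced G.left := isReduced_of_smooth_field G.hom
  haveI : _root_.IsReduced (Fn G) := inferInstance
  haveI := finiteType_fn G
  let R := (translMod i).fixedSubalgebra (translMod_isMult i) (𝟙 H)
  let e : Fn X →+* ↥R := RingHom.codRestrict (ev (a.orbitMap o)).toRingHom R.toSubring fun f =>
    (mem_fixed_translMod_iff i _).2 (isRTransInv_ev hX f)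
  have he : Function.Bijective e := ⟨fun x y hxy => AntiAffine.appTop_injective_of_epi (a.orbitMap o).left
      (congrArg Subtype.val hxy),
    fun r => by
      obtain ⟨f, hf⟩ := exists_ev_eq hX ((mem_fixed_translMod_iff i _).1 r.2)
      exact ⟨f, Subtype.ext hf⟩⟩
  let e' := RingEquiv.ofBijective e he
  have hsurj : Surjective X.left.toSpecΓ := ⟨fun P => by
    let Q : Ideal ↥R := P.asIdeal.comap e'.symm.toRingHom
    obtain ⟨p, hp, hpQ⟩ := thmAbi H hH (Fn G) (translMod i) (translMod_isMult i) inferInstance Q inferInstance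
    have hy : ∃ y : G.left, G.left.toSpecΓ y = (⟨p, hp⟩ : PrimeSpectrum (Fn G)) := G.left.toSpecΓ.surjective _
    obtain ⟨y, hy⟩ := hy
    refine ⟨(a.orbitMap o).left y, ?_⟩
    rw [← Scheme.Hom.comp_apply, Scheme.toSpecΓ_naturality, Scheme.Hom.comp_apply, hy]
    refine PrimeSpectrum.ext (Ideal.ext fun f => ?_)
    show ev (a.orbitMap o) f ∈ p ↔ f ∈ P.asIdeal
    have h1 : e f ∈ p.comap R.val ↔ e f ∈ Q := by rw [hpQ]
    refine h1.trans ?_
    show e'.symm (e' f) ∈ P.asIdeal ↔ _
    rw [RingEquiv.symm_apply_apply]⟩
  haveI : IsIso X.left.toSpecΓ := (isIso_iff_isOpenImmersion_and_surjective _).mpr ⟨inferInstance, hsurj⟩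
  exact IsAffine.of_isIso X.left.toSpecΓ

end Groth.Agent.QuotQA27
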