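import Groth.Agent.S2111
import Mathlib.AlgebraicGeometry.FunctionField
import Mathlib.AlgebraicGeometry.ResidueField
import Mathlib.AlgebraicGeometry.Morphisms.UniversallyInjective
import Mathlib.RingTheory.DedekindDomain.Dvr
import Mathlib.RingTheory.LocalProperties.IntegrallyClosed

/-! Functions under a universally injective surjection onto a normal scheme. -/

set_option autoImplicit false
set_option backward.isDefEq.respectTransparency false
set_option backward.isDefEq.respectTransparency.types false
set_option linter.style.haveILetI false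

universe u

open CategoryTheory AlgebraicGeometry TopologicalSpace Opposite

namespace Groth.Agent.QuotQA27

/-- Localisations of a normal noetherian domain at primes of height one are valuation rings. -/
theorem dvr_of_height_one {R : Type u} [CommRing R] [IsDomain R] [IsNoetherianRing R]
    [IsIntegrallyClosed R] (p : Ideal R) [p.IsPrime] (hp : p.height = 1) :
    IsDiscreteValuationRing (Localization.AtPrime p) := by
  let D := Localization.AtPrime p
  have hd : ringKrullDim D = 1 := by
    rw [IsLocalization.AtPrime.ringKrullDim_eq_height p D, hp]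
    rfl
  have hnf : ¬IsField D := fun hf => by
    rw [ringKrullDim_eq_zero_of_isField hf] at hd
    exact zero_ne_one hd
  haveI : Ring.KrullDimLE 1 D := Ring.krullDimLE_iff.2 hd.le
  haveI : IsNoetherianRing D := IsLocalization.isNoetherianRing p.primeCompl D inferInstance
  haveI : IsIntegrallyClosed D :=
    isIntegrallyClosed_of_isLocalization _ p.primeCompl p.primeCompl_le_nonZeroDivisors
  refine ((IsDiscreteValuationRing.TFAE D hnf).out 0 3 :
    IsDiscreteValuationRing D ↔ IsIntegrallyClosed D ∧ ∃! P : Ideal D, P ≠ ⊥ ∧ P.IsPrime).2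
    ⟨inferInstance, IsLocalRing.maximalIdeal D,
      ⟨fun h => hnf (IsLocalRing.isField_iff_maximalIdeal_eq.2 h), inferInstance⟩, fun P hP =>
      haveI := hP.2
      IsLocalRing.eq_maximalIdeal (Ideal.isMaximal_of_isPrime_of_ne_bot P hP.1)⟩

/-- Divisibility in a normal noetherian domain is tested at the primes of height one. -/
theorem dvd_of_forall_height_one {R : Type u} [CommRing R] [IsDomain R] [IsNoetherianRing R]
    [IsIntegrallyClosed R] {a b : R} (hb : b ≠ 0)
    (h : ∀ (p : Ideal R), p.IsPrime → p.height = 1 → ∀ r s : R, s ∉ p → r ∈ p → b * s ≠ a * r) : b ∣ a := by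
  by_cases ha : a = 0
  · exact ha ▸ dvd_zero b
  let K := FractionRing R
  have hinj := IsFractionRing.injective R K
  have hb' : algebraMap R K b ≠ 0 := by rwa [map_ne_zero_iff _ hinj]
  have ha' : algebraMap R K a ≠ 0 := by rwa [map_ne_zero_iff _ hinj]
  obtain ⟨c, hc⟩ := S2111.result (algebraMap R K a / algebraMap R K b) fun p hp1 hp => by
    haveI := dvr_of_height_one p hp
    rcases (ValuationRing.iff_isInteger_or_isInteger (Localization.AtPrime p) K).mp inferInstance
      (algebraMap R K a / algebraMap R K b) with h1 | h1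
    · exact h1
    obtain ⟨w, hw⟩ := h1
    rw [inv_div, eq_div_iff ha'] at hw
    obtain ⟨r, ⟨s, hs⟩, rfl⟩ := IsLocalization.exists_mk'_eq p.primeCompl w
    have hs' : algebraMap R K s ≠ 0 := by
      rw [map_ne_zero_iff _ hinj]; rintro rfl; exact hs p.zero_mem
    have hr : algebraMap (Localization.AtPrime p) K (IsLocalization.mk' _ r ⟨s, hs⟩) * algebraMap R K s =
        algebraMap R K r := by
      rw [IsScalarTower.algebraMap_apply R (Localization.AtPrime p) K s, ← map_mul, IsLocalization.mk'_spec,
        ← IsScalarTower.algebraMap_apply]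
    have heq : b * s = a * r := hinj (by rw [map_mul, map_mul, ← hw, ← hr]; ring)
    by_cases hrp : r ∈ p
    · exact absurd heq (h p hp1 hp r s hs hrp)
    have hrp' : r ∈ p.primeCompl := hrp
    refine ⟨IsLocalization.mk' _ s ⟨r, hrp'⟩, ?_⟩
    have hr' : algebraMap R K r ≠ 0 := by
      rw [map_ne_zero_iff _ hinj]; rintro rfl; exact hrp p.zero_mem
    have hs2 : algebraMap (Localization.AtPrime p) K (IsLocalization.mk' _ s ⟨r, hrp'⟩) * algebraMap R K r =
        algebraMap R K s := by
      rw [IsScalarTower.algebraMap_apply R (Localization.AtPrime p) K r, ← map_mul, IsLocalization.mk'_spec,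
        ← IsScalarTower.algebraMap_apply]
    rw [eq_div_iff hb', ← mul_left_inj' hr', mul_right_comm, hs2, ← map_mul, ← map_mul, mul_comm s b, heq]
  refine ⟨c, hinj ?_⟩
  rw [map_mul, hc, mul_div_cancel₀ _ hb']

variable {X Y : Scheme.{u}} [IsIntegral X] [IsIntegral Y] [IsLocallyNoetherian X]

/-- Sections over an affine open of a normal integral scheme form a normal domain. -/
theorem isIntegrallyClosed_section (hX : ∀ x : X, IsIntegrallyClosed (X.presheaf.stalk x)) {U : X.Opens}
    (hU : IsAffineOpen U) [Nonempty U] : IsIntegrallyClosed Γ(X, U) :=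
  IsIntegrallyClosed.of_localization_maximal fun p _ _ => by
    let x : U := ⟨hU.fromSpec ⟨p, inferInstance⟩, hU.range_fromSpec.le ⟨_, rfl⟩⟩
    letI := X.presheaf.algebra_section_stalk x
    haveI := hU.isLocalization_stalk x
    have hp : (hU.primeIdealOf x).asIdeal = p := by
      have h1 : hU.primeIdealOf x = ⟨p, inferInstance⟩ :=
        hU.fromSpec.isOpenEmbedding.injective ((hU.fromSpec_primeIdealOf x).trans rfl)
      rw [h1]
    haveI : IsLocalization.AtPrime (X.presheaf.stalk (x : X)) p := by
      have h2 := hU.isLocalization_stalk x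
      convert h2 using 1
      · exact hp.symm
    haveI := hX x
    exact IsIntegrallyClosed.of_equiv
      (IsLocalization.algEquiv p.primeCompl (X.presheaf.stalk (x : X)) (Localization.AtPrime p)).toRingEquiv

omit [IsLocallyNoetherian X] [IsIntegral Y] in
/-- Pullback of sections along a surjection onto a reduced scheme is injective. -/
theorem app_injective_of_surjective (π : Y ⟶ X) [Surjective π] (U : X.Opens) : Function.Injective (π.app U) := by
  refine (injective_iff_map_eq_zero (π.app U).hom).mpr fun z hz => (basicOpen_eq_bot_iff z).mp ?_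
  have h1 : π ⁻¹ᵁ X.basicOpen z = ⊥ := by
    rw [Scheme.preimage_basicOpen, hz, Scheme.basicOpen_zero]
  refine bot_unique fun x hx => ?_
  obtain ⟨y, rfl⟩ := π.surjective x
  exact (h1.le (show y ∈ π ⁻¹ᵁ X.basicOpen z from hx)).elim

variable (π : Y ⟶ X) [Surjective π] [UniversallyInjective π]
  (hX : ∀ x : X, IsIntegrallyClosed (X.presheaf.stalk x))
include hX

/-- Some power of every global function is a pullback. -/
theorem exists_pow_eq_pullback (f : Γ(Y, ⊤)) : ∃ m : ℕ, 0 < m ∧ ∃ z : Γ(X, ⊤), π.appTop z = f ^ m := by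
  let η := genericPoint Y
  have hmem : ∀ U : X.Opens, Nonempty U → η ∈ π ⁻¹ᵁ U := fun U ⟨⟨x, hx⟩⟩ => by
    obtain ⟨y, rfl⟩ := π.surjective x
    exact ((genericPoint_spec Y).mem_open_set_iff (π ⁻¹ᵁ U).isOpen).mpr ⟨y, by simpa using hx⟩
  have hres : Function.Injective (Y.residue η) := by
    have hf : IsField Y.functionField := Field.toIsField _
    refine (RingHom.injective_iff_ker_eq_bot (Y.residue η).hom).mpr ?_
    exact IsLocalRing.ker_residue.trans (IsLocalRing.isField_iff_maximalIdeal_eq.mp hf)
  have heval : ∀ (V : Y.Opens) (hV : η ∈ V), Function.Injective (Y.evaluation V η hV) := fun V hV => by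
    rw [← Scheme.germ_residue]
    exact hres.comp (germ_injective_of_isIntegral _ η hV)
  -- the residue field extension is purely inseparable
  have hpi : (π.residueFieldMap η).hom.IsPurelyInseparable :=
    by
    have h0 : UniversallyInjective π := inferInstance
    have h2 := (tfae_universallyInjective π).out 0 2
    exact (h2.mp h0).2 η
  letI : Algebra (X.residueField (π η)) (Y.residueField η) := (π.residueFieldMap η).hom.toAlgebra
  haveI : IsPurelyInseparable (X.residueField (π η)) (Y.residueField η) :=
    RingHom.isPurelyInseparable_algebraMap_iff.mp hpi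
  obtain ⟨q, _⟩ := ExpChar.exists (X.residueField (π η))
  obtain ⟨n, c, hc⟩ := IsPurelyInseparable.pow_mem (X.residueField (π η)) q (Y.evaluation ⊤ η trivial f)
  have hq : 0 < q := expChar_pos (X.residueField (π η)) q
  refine ⟨q ^ n, pow_pos hq n, ?_⟩
  set m := q ^ n
  -- local solutions
  have hloc : ∀ U : X.affineOpens, ∃ z : Γ(X, U.1),
      π.app U.1 z = Y.presheaf.map (homOfLE (le_top : π ⁻¹ᵁ U.1 ≤ ⊤)).op (f ^ m) := by
    rintro ⟨U, hU⟩
    by_cases hne : Nonempty U
    swap
    · haveI : Subsingleton Γ(Y, π ⁻¹ᵁ U) := by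
        have : π ⁻¹ᵁ U = ⊥ := bot_unique fun y hy => (hne ⟨⟨π y, hy⟩⟩).elim
        rw [this]
        exact CommRingCat.subsingleton_of_isTerminal (Y.sheaf.isTerminalOfEmpty)
      exact ⟨0, Subsingleton.elim _ _⟩
    have hη := hmem U hne
    haveI : IsNoetherianRing Γ(X, U) := IsLocallyNoetherian.component_noetherian ⟨U, hU⟩
    haveI := isIntegrallyClosed_section hX hU
    letI := X.presheaf.algebra_section_stalk (⟨π η, hη⟩ : U)
    haveI := hU.isLocalization_stalk ⟨π η, hη⟩
    obtain ⟨w, hw⟩ := X.residue_surjective (π η) c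
    obtain ⟨a, ⟨b, hbp⟩, hab⟩ := IsLocalization.exists_mk'_eq (hU.primeIdealOf ⟨π η, hη⟩).asIdeal.primeCompl w
    have hev : X.evaluation U (π η) hη a = c * X.evaluation U (π η) hη b := by
      rw [← hw, ← hab]
      show X.residue _ (algebraMap Γ(X, U) (X.presheaf.stalk (π η)) a) =
        X.residue _ _ * X.residue _ (algebraMap Γ(X, U) (X.presheaf.stalk (π η)) b)
      rw [← map_mul]
      exact congrArg (X.residue (π η)) (IsLocalization.mk'_spec (X.presheaf.stalk (π η)) a ⟨b, hbp⟩).symm
    set F := Y.presheaf.map (homOfLE (le_top : π ⁻¹ᵁ U ≤ ⊤)).op (f ^ m) with hF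
    have hkey : π.app U a = π.app U b * F := by
      apply heval _ hη
      rw [map_mul, ← Scheme.evaluation_naturality_apply, ← Scheme.evaluation_naturality_apply, hev, map_mul,
        mul_comm]
      congr 1
      refine hc.trans ?_
      rw [← map_pow, hF]
      show Y.residue η _ = Y.residue η _
      congr 1
      exact (TopCat.Presheaf.germ_res_apply Y.presheaf (homOfLE le_top) η hη (f ^ m)).symm
    have hb0 : b ≠ 0 := fun h => hbp (h ▸ Ideal.zero_mem _)
    obtain ⟨z, hz⟩ := dvd_of_forall_height_one (a := a) hb0 fun p hp _ r s hs hr heq => by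
      let x : X := hU.fromSpec ⟨p, hp⟩
      have hx : ∀ t : Γ(X, U), x ∈ X.basicOpen t ↔ t ∉ p := fun t => by
        show (⟨p, hp⟩ : PrimeSpectrum Γ(X, U)) ∈ hU.fromSpec ⁻¹ᵁ X.basicOpen t ↔ _
        rw [hU.fromSpec_preimage_basicOpen]
        rfl
      obtain ⟨y, hy⟩ := π.surjective x
      have h1 : π.app U s = F * π.app U r := by
        have h2 := congrArg (π.app U) heq
        rw [map_mul, map_mul, hkey, mul_assoc] at h2
        haveI : Nonempty (π ⁻¹ᵁ U) := ⟨⟨η, hη⟩⟩
        exact mul_left_cancel₀ (fun h => hb0 (app_injective_of_surjective π U (h.trans (map_zero _).symm))) h2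
      have h3 : y ∈ Y.basicOpen (π.app U s) := by
        rw [← Scheme.preimage_basicOpen]
        show π y ∈ X.basicOpen s
        rw [hy]; exact (hx s).mpr hs
      rw [h1, Scheme.basicOpen_mul] at h3
      have h4 := h3.2
      rw [← Scheme.preimage_basicOpen] at h4
      exact (hx r).mp (hy ▸ h4) hr
    refine ⟨z, ?_⟩
    haveI : Nonempty (π ⁻¹ᵁ U) := ⟨⟨η, hη⟩⟩
    refine mul_left_cancel₀ (fun h => hb0 (app_injective_of_surjective π U (h.trans (map_zero _).symm))) ?_
    rw [← map_mul, ← hz, hkey]
  choose z hz using hloc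
  obtain ⟨g, hg, -⟩ := X.sheaf.existsUnique_gluing' (fun U : X.affineOpens => U.1) ⊤ (fun U => homOfLE le_top)
    (fun x _ => by
      obtain ⟨U, hU, hxU, -⟩ := exists_isAffineOpen_mem_and_subset (x := x) (U := (⊤ : X.Opens)) trivial
      exact Opens.mem_iSup.mpr ⟨⟨U, hU⟩, hxU⟩) z (fun U V => by
      apply app_injective_of_surjective π
      show π.app _ (X.presheaf.map _ (z U)) = π.app _ (X.presheaf.map _ (z V))
      rw [← CommRingCat.comp_apply, ← CommRingCat.comp_apply, π.naturality, π.naturality,
        CommRingCat.comp_apply, CommRingCat.comp_apply, hz, hz, ← CommRingCat.comp_apply, ← CommRingCat.comp_apply,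
        ← Functor.map_comp, ← Functor.map_comp]
      rfl)
  refine ⟨g, ?_⟩
  refine Y.sheaf.eq_of_locally_eq' (fun U : X.affineOpens => π ⁻¹ᵁ U.1) ⊤ (fun U => homOfLE le_top)
    (fun y _ => by
      obtain ⟨U, hU, hxU, -⟩ := exists_isAffineOpen_mem_and_subset (x := π y) (U := (⊤ : X.Opens)) trivial
      exact Opens.mem_iSup.mpr ⟨⟨U, hU⟩, hxU⟩) _ _ fun U => ?_
  show Y.presheaf.map _ (π.app ⊤ g) = Y.presheaf.map _ (f ^ m)
  rw [← hz U, ← hg U]
  show _ = π.app U.1 (X.presheaf.map _ g)
  rw [← CommRingCat.comp_apply (X.presheaf.map _), π.naturality, CommRingCat.comp_apply]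
  rfl

end Groth.Agent.QuotQA27
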