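import Groth.Agent.QuotQA27.Unip
import Groth.Agent.SolvGrp.RadAlgClosed
import Groth.Agent.SolvGrp.GrothMax
import Groth.Agent.AGFLib.BorelImage
import Groth.Agent.Grosshans27.Restrict
import Groth.Agent.S3278
import Groth.Prelude.Def_Red2

/-! The invariants of the unipotent radical of a parabolic subgroup are finitely generated. -/

set_option autoImplicit false
set_option backward.isDefEq.respectTransparency false
set_option backward.isDefEq.respectTransparency.types false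
set_option linter.style.haveILetI false
set_option maxHeartbeats 1000000

universe u

open CategoryTheory MonoidalCategory CartesianMonoidalCategory MonObj GrpObj AlgebraicGeometry

noncomputable section

namespace Groth.Agent.QuotQA27

open SolvGrp GrpSchLib GrpSchLib.Kunneth GrpSchLib.LineGroups WeilCmp.Unip AGFLib AGFLib.Gen Grosshans27

variable {k : Type u} [Field k] [IsAlgClosed k]

local notation "PT" => 𝟙_ (Over (Spec (CommRingCat.of k)))

omit [IsAlgClosed k] in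
theorem rT_up {G : Over (Spec (CommRingCat.of k))} [GrpObj G]
    (g : 𝟙_ (Over (Spec (CommRingCat.of k))) ⟶ G) : AGFLib.rT (S11241.up g) = SolvGrp.rt g := by
  show ev (𝟙 G * (AGFLib.toPt G ≫ S11241.up g)) = ev (𝟙 G * (toUnit G ≫ g))
  rw [S11241.up, ← Category.assoc, toUnit_unique (AGFLib.toPt G ≫ toUnit _) (toUnit G)]

theorem fg_parabolicRad {G P H : Over (Spec (CommRingCat.of k))} [GrpObj G] [GrpObj P] [GrpObj H] [IsAffine G.left]
    [Smooth G.hom] (iP : P ⟶ G) [IsMonHom iP] (hP : Red.IsParabolicOver k iP) (h : H ⟶ P) [IsMonHom h]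
    (hH : Par.IsUnipotentRadical h) :
    (fixAlg (rangePts (h ≫ iP) : Set (𝟙_ (Over (Spec (CommRingCat.of k))) ⟶ G))).FG := by
  classical
  obtain ⟨hmP, hcP, hsP, Bo, _, b, hB⟩ := id hP
  haveI := hmP
  haveI := hcP
  haveI := hsP
  obtain ⟨hmH, hcH, hnH, hsH, hqH, hfH, hmaxH⟩ := id hH
  haveI := hmH
  haveI := hcH
  haveI := hsH
  haveI : IsAffine P.left := isAffine_of_isAffineHom iP.left
  haveI : IsAffine H.left := isAffine_of_isAffineHom h.left
  haveI : Mono iP := Over.mono_of_mono_left _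
  haveI : IsReduced G.left := isReduced_of_smooth_field G.hom
  haveI : IsReduced P.left := isReduced_of_smooth_field P.hom
  haveI : IsReduced H.left := isReduced_of_smooth_field H.hom
  obtain ⟨hconH, hntH⟩ := hfH (AGFLib.GeomBC.pt k)
  haveI : ConnectedSpace H.left := connectedSpace_of_geomFibre _ hconH
  have huH : ∀ y : PT ⟶ H, IsUnipPt y := isUnipPt_of_hasNoSubtorus (hasNoSubtorus_of_geomFibre _ hntH)
  haveI := hB.1
  haveI : IsMonHom b := BorelImage.isMonHom_of_comp b iP (b ≫ iP) rfl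
  haveI : IsClosedImmersion b.left := by
    haveI : IsClosedImmersion (b.left ≫ iP.left) := hB.2.1
    exact IsClosedImmersion.of_comp b.left iP.left
  haveI := hB.2.2.1
  haveI := hB.2.2.2.1
  haveI : IsAffine Bo.left := isAffine_of_isAffineHom b.left
  haveI : IsReduced Bo.left := isReduced_of_smooth_field Bo.hom
  obtain ⟨P₀, _, jP, hjm, hjc, hjo, haP, hsP₀, hcP₀⟩ := SolvGrp.Groth.exists_identityComponent_smooth P
  haveI := hjm
  haveI := hjc
  haveI := hjo
  haveI := haP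
  haveI := hsP₀
  haveI := hcP₀
  haveI : Mono jP := Over.mono_of_mono_left _
  haveI : IsReduced P₀.left := isReduced_of_smooth_field P₀.hom
  obtain ⟨h₀, hh₀m, hh₀⟩ := exists_lift_open jP h
  obtain ⟨b₀, hb₀m, hb₀⟩ := exists_lift_open jP b
  haveI := hh₀m
  haveI := hb₀m
  haveI : IsClosedImmersion h₀.left := by
    haveI : IsClosedImmersion (h₀.left ≫ jP.left) := by rw [← Over.comp_left, hh₀]; infer_instance
    exact IsClosedImmersion.of_comp h₀.left jP.left
  haveI : IsClosedImmersion b₀.left := by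
    haveI : IsClosedImmersion (b₀.left ≫ jP.left) := by rw [← Over.comp_left, hb₀]; infer_instance
    exact IsClosedImmersion.of_comp b₀.left jP.left
  have hB₀ : Red.IsBorelOver k b₀ := ⟨inferInstance, inferInstance, inferInstance, inferInstance, hB.2.2.2.2.1,
    fun B' _ i' _ f hcl hs hcn hsol hf => by
      haveI := hcl
      exact hB.2.2.2.2.2 B' (i' ≫ jP ≫ iP) f
        (inferInstanceAs (IsClosedImmersion (i'.left ≫ jP.left ≫ iP.left))) hs hcn hsol
        (by rw [← Category.assoc, hf, ← Category.assoc, hb₀])⟩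
  obtain ⟨R, _, r, hrm, hrc, hrs, hrcon, hrn, hru, hrmax⟩ := exists_unipRadPts P₀
  haveI := hrm
  haveI := hrc
  haveI := hrs
  haveI := hrcon
  obtain ⟨haR, hlR, hqR, -, -⟩ := sub_props r
  haveI := haR
  haveI := hlR
  haveI : IsReduced R.left := isReduced_of_smooth_field R.hom
  have hn₀ : (rangePts h₀).Normal := ⟨by
    rintro _ ⟨y, rfl⟩ g
    obtain ⟨y', hy'⟩ := hnH _ (g ≫ jP) y
    refine ⟨y', (cancel_mono jP).mp ?_⟩
    show (y' ≫ h₀) ≫ jP = (g * (y ≫ h₀) * g⁻¹) ≫ jP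
    rw [MonObj.mul_comp, MonObj.mul_comp, GrpObj.inv_comp, Category.assoc, Category.assoc, hh₀, hy']⟩
  have hrH : ∀ y : PT ⟶ R, ∃ z : PT ⟶ H, z ≫ h = y ≫ r ≫ jP := by
    haveI : IsClosedImmersion (r ≫ jP).left := inferInstanceAs (IsClosedImmersion (r.left ≫ jP.left))
    have hn : (rangePts (r ≫ jP)).Normal := ⟨by
      rintro _ ⟨y, rfl⟩ g
      obtain ⟨c, hc, hcc, hcs⟩ := exists_conj_component jP g
      haveI := hc
      haveI : IsClosedImmersion c.left := hcc
      haveI : IsClosedImmersion (r ≫ c).left := inferInstanceAs (IsClosedImmersion (r.left ≫ c.left))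
      have hnc : (rangePts (r ≫ c)).Normal := ⟨by
        rintro _ ⟨z, rfl⟩ g'
        obtain ⟨h', rfl⟩ := hcs.2 g'
        obtain ⟨z', hz'⟩ := hrn.conj_mem (z ≫ r) ⟨z, rfl⟩ h'
        change z' ≫ r = h' * (z ≫ r) * h'⁻¹ at hz'
        refine ⟨z', ?_⟩
        show z' ≫ r ≫ c = (h' ≫ c) * (z ≫ r ≫ c) * (h' ≫ c)⁻¹
        rw [← Category.assoc, hz', MonObj.mul_comp, MonObj.mul_comp, GrpObj.inv_comp, Category.assoc z]⟩
      obtain ⟨w, hw⟩ := hrmax R (r ≫ c) inferInstance hrs hrcon hnc (hasNoSubtorus_of_isUnipPt hru) ⟨y, rfl⟩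
      change w ≫ r = y ≫ r ≫ c at hw
      refine ⟨w, ?_⟩
      show w ≫ r ≫ jP = g * (y ≫ r ≫ jP) * g⁻¹
      have h1 := hcs.1 (x := y ≫ r)
      simp only [Category.assoc] at h1
      rw [← h1, ← Category.assoc w, hw, Category.assoc, Category.assoc]⟩
    obtain ⟨f, hf⟩ := hmaxH R (r ≫ jP) inferInstance (isNormalHom_of_pts _ hn) hrs hqR
      fun s => geomFibre_props (hasNoSubtorus_of_isUnipPt hru) s
    exact fun y => ⟨y ≫ f, by rw [Category.assoc, hf]⟩
  have hHr : rangePts h₀ ≤ rangePts r :=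
    hrmax H h₀ inferInstance inferInstance inferInstance hn₀ (hasNoSubtorus_of_geomFibre _ hntH)
  haveI : Group.IsNilpotent (PT ⟶ H) := isNilpotent_pts huH
  have hsolH : Red.IsSolvableGrp H := by
    obtain ⟨n, hn⟩ := (Group.isSolvable_def (PT ⟶ H)).mp inferInstance
    exact AGFLib.ProperSpace.isSolvableGrp_of_pts n hn
  obtain ⟨B₁, _, i₁, hi₁, hB₁, hle₁⟩ := exists_borel_containing h₀ hsolH
  obtain ⟨g, φ, hφ⟩ := AGFLib.Borel.conjugate b₀ i₁ hB₀ hB₁
  have hHb : ∀ y : PT ⟶ H, ∃ c : PT ⟶ Bo, c ≫ b = y ≫ h := by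
    intro y
    obtain ⟨y', hy'⟩ := hn₀.conj_mem (y ≫ h₀) ⟨y, rfl⟩ g
    change y' ≫ h₀ = g * (y ≫ h₀) * g⁻¹ at hy'
    obtain ⟨z, hz⟩ := hle₁ ⟨y', rfl⟩
    change z ≫ i₁ = y' ≫ h₀ at hz
    have h1 : (z ≫ φ.inv) ≫ AGF.conjBy g b₀ = z ≫ i₁ := by rw [← hφ, Category.assoc, Iso.inv_hom_id_assoc]
    rw [AGFLib.Borel.conjBy_eq, ← Category.assoc, AGFLib.Borel.comp_conjM, toUnit_unique (toUnit PT) (𝟙 _),
      Category.id_comp, hz, hy', mul_left_inj, mul_right_inj] at h1
    exact ⟨z ≫ φ.inv, by rw [← hb₀, ← Category.assoc, h1, Category.assoc, hh₀]⟩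
  obtain ⟨U, _, uu, hU⟩ := exists_isUnipotentRadical Bo
  haveI := hU.1
  haveI := hU.2.1
  have hFU : (fixAlg (rangePts (uu ≫ b ≫ iP) : Set (PT ⟶ G))).FG := fg_general (b ≫ iP) hB uu hU
  have hHU : ∀ y : PT ⟶ H, ∃ z : PT ⟶ U, z ≫ uu ≫ b ≫ iP = y ≫ h ≫ iP := by
    intro y
    obtain ⟨c, hc⟩ := hHb y
    obtain ⟨haB, hlB, -, -, hevB⟩ := sub_props b
    haveI := hlB
    have hcu : IsUnipPt c := IsUnipPt.map b hevB (hc ▸ (map_isSsPt_isUnipPt h y).2 (huH y))
    obtain ⟨z, hz⟩ := unip_mem_radical hB.2.2.2.2.1 uu hU hcu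
    change z ≫ uu = c at hz
    exact ⟨z, by rw [← Category.assoc, hz, ← Category.assoc, hc, Category.assoc]⟩
  -- the quotient
  obtain ⟨Q, _, q, hqm, haQ, hlQ, hflQ, hsuQ, hker⟩ := S3278.result k P₀ R r (SolvGrp.isNormalHom_of_pts r hrn)
  haveI := hqm
  haveI := haQ
  haveI := hlQ
  haveI := hflQ
  haveI := hsuQ
  haveI : IsReduced Q.left := FBaseLib.isReduced_of_flat_surjective q.left
  haveI : Smooth Q.hom := smooth_of_perfectField_of_isReduced Q
  haveI : ConnectedSpace Q.left := q.left.surjective.connectedSpace q.left.continuous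
  have hkpts : ∀ a : PT ⟶ P₀, a ≫ q = 1 ↔ a ∈ rangePts r := fun a => ⟨fun ha =>
      ⟨hker.lift a (toUnit _) (by rw [ha, Hom.one_def]), hker.lift_fst _ _ _⟩, by
    rintro ⟨y, rfl⟩
    show (y ≫ r) ≫ q = 1
    rw [Category.assoc, hker.w, Hom.one_def, ← Category.assoc]
    congr 1
    exact toUnit_unique _ _⟩
  have hQ : Red.IsReductiveOver k Q := by
    refine ⟨inferInstance, inferInstance, inferInstance, fun V _ v _ hcv hsv hconv hnv hntv => ?_⟩
    haveI := hcv
    haveI := hsv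
    haveI := hconv
    obtain ⟨haV, hlV, -, hmV, -⟩ := sub_props v
    haveI := haV
    haveI := hlV
    haveI := hmV
    haveI : IsReduced V.left := isReduced_of_smooth_field V.hom
    refine isTrivialGrp_of_pts fun y => (cancel_mono v).mp ?_
    obtain ⟨a, ha, hay⟩ := le_map_unipRad q r hrn hrmax v ⟨fun z hz g => by
      obtain ⟨z', rfl⟩ := hz
      obtain ⟨y', hy'⟩ := hnv _ g z'
      exact ⟨y', hy'.symm⟩⟩ (isUnipPt_of_hasNoSubtorus hntv) ⟨y, rfl⟩
    change a ≫ q = y ≫ v at hay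
    rw [← hay, MonObj.one_comp]
    exact (hkpts a).mpr ha
  obtain ⟨B', _, iB', p, hmB', hcB', hsB', hp⟩ := BorelImage.exists_image q b₀
  haveI := hmB'
  haveI := hcB'
  haveI := hsB'
  obtain ⟨hsup, hpB⟩ := hp inferInstance
  haveI := hsup
  have hB' : Red.IsBorelOver k iB' := BorelImage.isBorel_image q b₀ hB₀ iB' p hpB
  haveI : Mono iB' := Over.mono_of_mono_left _
  haveI : IsMonHom p := BorelImage.isMonHom_of_comp p iB' (b₀ ≫ q) hpB
  haveI : IsAffine B'.left := isAffine_of_isAffineHom iB'.left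
  haveI : IsReduced B'.left := isReduced_of_smooth_field B'.hom
  haveI := hB'.2.2.2.1
  obtain ⟨U', _, u', hU'⟩ := exists_isUnipotentRadical B'
  haveI := hU'.1
  haveI := hU'.2.1
  obtain ⟨O⟩ := nonempty_opp hQ iB' hB' u' hU'
  -- the representation
  let A : Subalgebra k (Fn G) := fixAlg (rangePts (h ≫ iP) : Set (PT ⟶ G))
  let m : P₀ ⟶ G := jP ≫ iP
  let σ := repOf (translMod (𝟙 G)) m
  have hσ : ∀ (a : PT ⟶ P₀) (f : Fn G), σ a f = SolvGrp.rt (a ≫ m) f := fun a f => by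
    rw [show σ a f = S11241.act (translMod (𝟙 G)) (a ≫ m) f from rfl, act_translMod, Category.comp_id, rT_up]
  have hmul : ∀ (c d : PT ⟶ G) (f : Fn G), SolvGrp.rt (c * d) f = SolvGrp.rt c (SolvGrp.rt d f) := fun c d f =>
    LinearMap.congr_fun (SolvGrp.rl_mul c d) f
  have hst : ∀ (a : PT ⟶ P₀) (f : Fn G), f ∈ A → σ a f ∈ A := by
    intro a f hf
    refine mem_fixAlg.mpr ?_
    rintro _ ⟨y, rfl⟩
    obtain ⟨y', hy'⟩ := hnH _ (a⁻¹ ≫ jP) y
    have e : (y ≫ h ≫ iP) * (a ≫ m) = (a ≫ m) * (y' ≫ h ≫ iP) := by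
      simp only [m, ← Category.assoc, ← hy', MonObj.mul_comp, GrpObj.inv_comp]
      group
    show SolvGrp.rt (y ≫ h ≫ iP) (σ a f) = σ a f
    rw [hσ, ← hmul, e, hmul, mem_fixAlg.mp hf _ ⟨y', rfl⟩]
  let σA : (PT ⟶ P₀) →* Module.End k ↥A :=
    { toFun := fun a =>
        { toFun := fun f => ⟨σ a f, hst a f f.2⟩
          map_add' := fun x y => Subtype.ext (map_add (σ a) _ _)
          map_smul' := fun c x => Subtype.ext (map_smul (σ a) c _) }
      map_one' := LinearMap.ext fun f => Subtype.ext (by show σ 1 (f : Fn G) = f; rw [map_one]; rfl)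
      map_mul' := fun a c => LinearMap.ext fun f => Subtype.ext (by
        show σ (a * c) (f : Fn G) = σ a (σ c f); rw [map_mul]; rfl) }
  have hkerσ : ∀ a ∈ rangePts r, σA a = 1 := by
    rintro _ ⟨y, rfl⟩
    obtain ⟨z, hz⟩ := hrH y
    refine LinearMap.ext fun f => Subtype.ext ?_
    show σ (y ≫ r) (f : Fn G) = f
    rw [hσ]
    exact mem_fixAlg.mp f.2 _ ⟨z, by show z ≫ h ≫ iP = (y ≫ r) ≫ jP ≫ iP; rw [← Category.assoc, hz]; simp only [Category.assoc]⟩
  have hsurj : ∀ x : PT ⟶ Q, ∃ a : PT ⟶ P₀, a ≫ q = x := exists_pt_of_surjective q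
  choose sec hsec using hsurj
  have hwd : ∀ (x : PT ⟶ Q) (a : PT ⟶ P₀), a ≫ q = x → σA (sec x) = σA a := by
    intro x a ha
    have h1 : (a⁻¹ * sec x) ∈ rangePts r := (hkpts _).mp (by
      rw [MonObj.mul_comp, GrpObj.inv_comp, ha, hsec, inv_mul_cancel])
    rw [show sec x = a * (a⁻¹ * sec x) by group, map_mul, hkerσ _ h1, _root_.mul_one]
  let π : (PT ⟶ Q) →* Module.End k ↥A :=
    { toFun := fun x => σA (sec x)
      map_one' := by rw [hwd 1 1 (MonObj.one_comp q), map_one]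
      map_mul' := fun x y => by
        rw [← map_mul]
        exact hwd _ _ (by rw [MonObj.mul_comp, hsec, hsec]) }
  have hπ : ∀ (a : PT ⟶ P₀) (f : A), ((π (a ≫ q) f : A) : Fn G) = SolvGrp.rt (a ≫ m) f := fun a f => by
    rw [show π (a ≫ q) = σA a from hwd _ a rfl]
    exact hσ a f
  have hrat0 := isRat_repOf (translMod (𝟙 G)) m
  have hrat : IsRat π := by
    constructor
    · intro v
      obtain ⟨S, hS, hSm⟩ := hrat0.finite (v : Fn G)
      haveI := hS
      let T : ↥(S.comap A.val.toLinearMap) →ₗ[k] S :=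
        { toFun := fun x => ⟨((x : A) : Fn G), x.2⟩
          map_add' := fun _ _ => rfl
          map_smul' := fun _ _ => rfl }
      have hT : Function.Injective T := fun x y e =>
        Subtype.ext (Subtype.ext (congrArg (fun z : S => (z : Fn G)) e))
      exact ⟨S.comap A.val.toLinearMap, Module.Finite.of_injective T hT, fun x => hSm (sec x)⟩
    · intro v l
      obtain ⟨L, hL⟩ := LinearMap.exists_extend (p := Subalgebra.toSubmodule A) l
      obtain ⟨F, hF⟩ := hrat0.coeff (v : Fn G) L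
      have hFσ : ∀ a : PT ⟶ P₀, vl a F = l (σA a v) := fun a => by
        rw [hF, ← hL]; rfl
      have hFinv : AGF.IsRTransInv r F := isRTransInv_of_pts r F fun x => by
        obtain ⟨y, rfl⟩ := Grosshans27.exists_up x
        rw [← up_comp, rT_up]
        refine eq_of_vl fun a => ?_
        rw [SolvGrp.vl_rt, hFσ, hFσ, map_mul, hkerσ _ ⟨y, rfl⟩, _root_.mul_one]
      obtain ⟨g', hg'⟩ := exists_ev_kernel r q
        (FpqcDescLib.covers_of_isCovering (FpqcDescLib.isCovering_of_quasiCompact _)) hker hFinv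
      refine ⟨g', fun x => ?_⟩
      rw [show π x = σA (sec x) from rfl, ← hFσ, ← hg', vl_ev, hsec]
  have halg : IsAlgRep π := ⟨fun x f f' => Subtype.ext (by
      show σ (sec x) ((f : Fn G) * f') = σ (sec x) f * σ (sec x) f'
      rw [hσ, hσ, hσ, map_mul]), fun x => Subtype.ext (by
      show σ (sec x) (1 : Fn G) = 1
      rw [hσ, map_one])⟩
  let FU := fixAlg (rangePts (uu ≫ b ≫ iP) : Set (PT ⟶ G))
  have hFUA : FU ≤ A := fun f hf => mem_fixAlg.mpr (by
    rintro _ ⟨y, rfl⟩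
    obtain ⟨z, hz⟩ := hHU y
    exact mem_fixAlg.mp hf _ ⟨z, hz⟩)
  have hbm : ∀ c : PT ⟶ Bo, (c ≫ b₀) ≫ m = c ≫ b ≫ iP := fun c => by
    simp only [m, Category.assoc, reassoc_of% hb₀]
  have hbq : ∀ c : PT ⟶ Bo, (c ≫ b₀) ≫ q = (c ≫ p) ≫ iB' := fun c => by
    rw [Category.assoc, Category.assoc, hpB]
  have hfix : ∀ f : A, f ∈ Opp.fixV π (rangePts (u' ≫ iB')) ↔ (f : Fn G) ∈ FU := by
    intro f
    constructor
    · intro hf
      refine mem_fixAlg.mpr ?_
      rintro _ ⟨z, rfl⟩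
      obtain ⟨hclU, hlU, -, -, -⟩ := sub_props uu
      haveI := hclU
      haveI := hlU
      obtain ⟨hcU, hntU⟩ := hU.2.2.2.2.2.1 (AGFLib.GeomBC.pt k)
      haveI := hU.2.2.2.1
      haveI : ConnectedSpace U.left := connectedSpace_of_geomFibre _ hcU
      haveI : IsReduced U.left := isReduced_of_smooth_field U.hom
      have hu : IsUnipPt ((z ≫ uu) ≫ p) := (map_isSsPt_isUnipPt p _).2 ((map_isSsPt_isUnipPt uu z).2
        (isUnipPt_of_hasNoSubtorus (hasNoSubtorus_of_geomFibre _ hntU) z))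
      obtain ⟨w, hw⟩ := unip_mem_radical hB'.2.2.2.2.1 u' hU' hu
      change w ≫ u' = (z ≫ uu) ≫ p at hw
      have h1 := congrArg Subtype.val (hf _ ⟨w, rfl⟩)
      show SolvGrp.rt (z ≫ uu ≫ b ≫ iP) (f : Fn G) = f
      rw [show z ≫ uu ≫ b ≫ iP = (z ≫ uu) ≫ b ≫ iP from (Category.assoc _ _ _).symm, ← hbm, ← hπ, hbq, ← hw,
        Category.assoc]
      exact h1
    · rintro hf _ ⟨w, rfl⟩
      obtain ⟨c, hc⟩ := exists_pt_of_surjective p (w ≫ u')
      obtain ⟨s, v, e, hcom, hs, hv, -⟩ := exists_jordan c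
      obtain ⟨hclU', hlU', -, -, -⟩ := sub_props u'
      haveI := hclU'
      haveI := hlU'
      obtain ⟨hcU', hntU'⟩ := hU'.2.2.2.2.2.1 (AGFLib.GeomBC.pt k)
      haveI := hU'.2.2.2.1
      haveI : ConnectedSpace U'.left := connectedSpace_of_geomFibre _ hcU'
      haveI : IsReduced U'.left := isReduced_of_smooth_field U'.hom
      have hwu : IsUnipPt (w ≫ u') := (map_isSsPt_isUnipPt u' w).2
        (isUnipPt_of_hasNoSubtorus (hasNoSubtorus_of_geomFibre _ hntU') w)
      have hs1 : s ≫ p = 1 := (jordan_unique (g := c ≫ p) (by rw [← MonObj.mul_comp, ← e])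
        (by show (s ≫ p) * (v ≫ p) = (v ≫ p) * (s ≫ p); rw [← MonObj.mul_comp, hcom.eq, MonObj.mul_comp])
        ((map_isSsPt_isUnipPt p s).1 hs) ((map_isSsPt_isUnipPt p v).2 hv) (_root_.one_mul _).symm (Commute.one_left _)
        isSsPt_one (hc ▸ hwu)).1
      have hvp : v ≫ p = w ≫ u' := by rw [← hc, e, MonObj.mul_comp, hs1, _root_.one_mul]
      obtain ⟨z, hz⟩ := unip_mem_radical hB.2.2.2.2.1 uu hU hv
      change z ≫ uu = v at hz
      refine Subtype.ext ?_
      show ((π (w ≫ u' ≫ iB') f : A) : Fn G) = f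
      rw [← Category.assoc, ← hvp, ← hbq, hπ, hbm, ← hz]
      exact mem_fixAlg.mp hf _ ⟨z, (Category.assoc _ _ _).symm⟩
  obtain ⟨s, hs⟩ := hFU
  have hsA : ∀ z ∈ s, z ∈ A := fun z hz => hFUA (hs.le (Algebra.subset_adjoin hz))
  let s' : Finset A := s.attach.image fun z => ⟨z.1, hsA z.1 z.2⟩
  have himg : A.val '' (s' : Set A) = (s : Set (Fn G)) := by
    ext z
    simp only [s', Finset.coe_image, Set.mem_image, Finset.mem_coe, Finset.mem_attach, true_and]
    constructor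
    · rintro ⟨_, ⟨w, rfl⟩, rfl⟩; exact w.2
    · exact fun hz => ⟨⟨z, hsA z hz⟩, ⟨⟨z, hz⟩, rfl⟩, rfl⟩
  refine (Subalgebra.fg_iff_finiteType A).mpr (O.finiteType_of_fixV hrat halg s'
    (fun a ha => (hfix a).mpr (hs.le (Algebra.subset_adjoin (himg ▸ ⟨a, ha, rfl⟩)))) fun x hx => ?_)
  have h1 : (x : Fn G) ∈ (Algebra.adjoin k (s' : Set A)).map A.val := by
    rw [AlgHom.map_adjoin, himg]
    exact hs.ge ((hfix x).mp hx)
  obtain ⟨y, hy, hyx⟩ := h1
  rwa [← Subtype.ext hyx]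

end Groth.Agent.QuotQA27
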