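import Groth.Agent.SolvGrp.RadAlgClosed
import Groth.Agent.SolvGrp.GrothMax
import Groth.Agent.AGFLib.ObsRadical
import Groth.Prelude.Def_W4bk4grossh1223Act

/-! The quotient of a group by its unipotent radical has reductive identity component. -/

set_option backward.isDefEq.respectTransparency false
set_option backward.isDefEq.respectTransparency.types false
set_option linter.style.haveILetI false

universe u

open CategoryTheory MonoidalCategory CartesianMonoidalCategory MonObj AlgebraicGeometry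

namespace Groth.Agent.QuotQA27

open GrpSchLib GrpSchLib.Kunneth GrpSchLib.LineGroups WeilCmp.Unip AGFLib AGFLib.Gen SolvGrp

variable {k : Type u} [Field k] [IsAlgClosed k]

local notation "PT" => 𝟙_ (Over (Spec (CommRingCat.of k)))

/-- The quotient by the unipotent radical has no normal connected unipotent subgroup. -/
theorem eq_one_of_normal_unip {H M UH D : Over (Spec (CommRingCat.of k))} [GrpObj H] [GrpObj M] [GrpObj UH] [GrpObj D]
    [IsAffine H.left] [Smooth H.hom] [IsAffine M.left] [Smooth M.hom] (uH : UH ⟶ H)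
    (hUH : Par.IsUnipotentRadical uH) (q : H ⟶ M) [IsMonHom q] [Surjective q.left] (hq : AlgGrp.IsKernel uH q)
    (d : D ⟶ M) [IsMonHom d] [IsClosedImmersion d.left] [Smooth D.hom] [ConnectedSpace D.left]
    (hn : (rangePts d).Normal) (hu : ∀ y : PT ⟶ D, IsUnipPt y) (x : PT ⟶ D) : x = 1 := by
  obtain ⟨hmU, hcU, -, hsU, -, hfU, hmaxU⟩ := hUH
  haveI := hmU
  haveI := hcU
  haveI := hsU
  haveI : IsReduced H.left := isReduced_of_smooth_field H.hom
  haveI : IsReduced M.left := isReduced_of_smooth_field M.hom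
  haveI : IsReduced UH.left := isReduced_of_smooth_field UH.hom
  haveI : IsReduced D.left := isReduced_of_smooth_field D.hom
  obtain ⟨haU, hlU, hqU, -, -⟩ := sub_props uH
  haveI := haU
  haveI := hlU
  obtain ⟨haD, hlD, hqD, hmD, -⟩ := sub_props d
  haveI := haD
  haveI := hlD
  haveI := hqD
  haveI := hmD
  obtain ⟨hcon, hnt⟩ := hfU (IsLocalRing.closedPoint k)
  haveI : ConnectedSpace UH.left := connectedSpace_of_geomFibre _ hcon
  have huU : ∀ y : PT ⟶ UH, IsUnipPt (y ≫ uH) := fun y =>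
    (map_isSsPt_isUnipPt uH y).2 (isUnipPt_of_hasNoSubtorus (hasNoSubtorus_of_geomFibre _ hnt) y)
  let P : Subgroup (PT ⟶ H) := (rangePts d).comap (ptsHom q)
  have hP : PtsClosed (P : Set (PT ⟶ H)) := (ptsClosed_range d).preimage q
  have hPn : P.Normal := hn.comap (ptsHom q)
  have hPu : ∀ g ∈ P, IsUnipPt g := by
    rintro g ⟨y, hy⟩
    change y ≫ d = g ≫ q at hy
    obtain ⟨s, v, e, hc, hs, hv, -⟩ := exists_jordan g
    have hsq : s ≫ q = 1 := (jordan_unique (g := g ≫ q) (by rw [← MonObj.mul_comp, ← e])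
      (by show (s ≫ q) * (v ≫ q) = (v ≫ q) * (s ≫ q); rw [← MonObj.mul_comp, hc.eq, MonObj.mul_comp])
      ((map_isSsPt_isUnipPt q s).1 hs) ((map_isSsPt_isUnipPt q v).2 hv) (_root_.one_mul _).symm (Commute.one_left _)
      isSsPt_one (hy ▸ (map_isSsPt_isUnipPt d y).2 (hu y))).1
    have hsU' : IsUnipPt s := by
      rw [show s = hq.lift s (toUnit PT) (by rw [hsq, Hom.one_def]) ≫ uH from (hq.lift_fst _ _ _).symm]
      exact huU _
    rw [e, eq_one_of_isSsPt_isUnipPt hs hsU', _root_.one_mul]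
    exact hv
  obtain ⟨E, _, e, he, hce, hsE, hcE, haE, hleE, S, hS, -, hcov⟩ := exists_connSub P hP
  haveI := he
  haveI := hce
  haveI := hsE
  haveI := hcE
  obtain ⟨N, _, iN, hiN, hcN, hsN, hconnN, hnN, hleN, hrec⟩ := exists_normalSub (P : Set (PT ⟶ H))
    (fun g z hz => hPn.conj_mem z hz g) P hP (fun z hz => hz)
  haveI := hiN
  haveI := hcN
  haveI := hsN
  haveI := hconnN
  obtain ⟨haN, hlN, hqN, -, hevN⟩ := sub_props iN
  haveI := haN
  haveI := hlN
  haveI : IsReduced N.left := isReduced_of_smooth_field N.hom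
  have hNu : Red.HasNoSubtorus k N :=
    hasNoSubtorus_of_isUnipPt fun y => IsUnipPt.map iN hevN (hPu _ (hleN ⟨y, rfl⟩))
  obtain ⟨f, hf⟩ := hmaxU N iN hcN (isNormalHom_of_pts iN hnN) hsN hqN fun s => geomFibre_props hNu s
  have hkill : ∀ g ∈ rangePts e, g ≫ q = 1 := by
    intro g hg
    obtain ⟨y, rfl⟩ := hrec E e hleE hg
    show (y ≫ iN) ≫ q = 1
    rw [← hf, Category.assoc, Category.assoc, hq.w, Hom.one_def, ← Category.assoc, ← Category.assoc]
    congr 1
    exact toUnit_unique _ _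
  refine eq_one_of_finite ?_ x
  classical
  haveI := hS.to_subtype
  refine Finite.of_surjective
    (fun s : S => if h : ∃ y : PT ⟶ D, y ≫ d = (s : PT ⟶ H) ≫ q then h.choose else 1) fun y => ?_
  obtain ⟨g, hg⟩ := exists_pt_of_surjective q (y ≫ d)
  obtain ⟨s, hs, hsg⟩ := hcov g ⟨y, hg.symm⟩
  have h1 := hkill _ hsg
  rw [MonObj.mul_comp, GrpObj.inv_comp, inv_mul_eq_one] at h1
  have hex : ∃ y : PT ⟶ D, y ≫ d = s ≫ q := ⟨y, by rw [h1, hg]⟩
  refine ⟨⟨s, hs⟩, (cancel_mono d).mp ?_⟩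
  simp only [dif_pos hex]
  rw [hex.choose_spec, h1, hg]

/-- The quotient by the unipotent radical has reductive identity component. -/
theorem isReductiveGrp_quot {H M UH : Over (Spec (CommRingCat.of k))} [GrpObj H] [GrpObj M] [GrpObj UH]
    [IsAffine H.left] [Smooth H.hom] [IsAffine M.left] [Smooth M.hom] (uH : UH ⟶ H)
    (hUH : Par.IsUnipotentRadical uH) (q : H ⟶ M) [IsMonHom q] [Surjective q.left] (hq : AlgGrp.IsKernel uH q) :
    VecGrp.IsReductiveGrp k M := by
  obtain ⟨M₀, _, j, hj, hjc, hjo, haM, hsM, hcM⟩ := SolvGrp.Groth.exists_identityComponent_smooth M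
  haveI := hj
  haveI := hjc
  haveI := hjo
  haveI := haM
  haveI := hsM
  haveI := hcM
  haveI : Mono j := Over.mono_of_mono_left _
  obtain ⟨R, _, r, hr, hrc, hrs, hrcon, hrn, hru, hrmax⟩ := exists_unipRadPts M₀
  haveI := hr
  haveI := hrc
  haveI := hrs
  haveI := hrcon
  haveI : IsReduced M₀.left := isReduced_of_smooth_field M₀.hom
  haveI : IsReduced R.left := isReduced_of_smooth_field R.hom
  obtain ⟨haR, hlR, -, hmR, -⟩ := sub_props r
  haveI := haR
  haveI := hlR
  haveI := hmR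
  haveI : IsClosedImmersion (r ≫ j).left := inferInstanceAs (IsClosedImmersion (r.left ≫ j.left))
  have hn : (rangePts (r ≫ j)).Normal := ⟨by
    rintro _ ⟨y, rfl⟩ g
    obtain ⟨c, hc, hcc, hcs⟩ := exists_conj_component j g
    haveI := hc
    haveI : IsClosedImmersion c.left := hcc
    haveI : IsClosedImmersion (r ≫ c).left := inferInstanceAs (IsClosedImmersion (r.left ≫ c.left))
    have hnc : (rangePts (r ≫ c)).Normal := ⟨by
      rintro _ ⟨z, rfl⟩ h
      obtain ⟨h', rfl⟩ := hcs.2 h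
      obtain ⟨z', hz'⟩ := hrn.conj_mem (z ≫ r) ⟨z, rfl⟩ h'
      change z' ≫ r = h' * (z ≫ r) * h'⁻¹ at hz'
      refine ⟨z', ?_⟩
      show z' ≫ r ≫ c = (h' ≫ c) * (z ≫ r ≫ c) * (h' ≫ c)⁻¹
      rw [← Category.assoc, hz', MonObj.mul_comp, MonObj.mul_comp, GrpObj.inv_comp, Category.assoc z]⟩
    obtain ⟨w, hw⟩ := hrmax R (r ≫ c) inferInstance hrs hrcon hnc (hasNoSubtorus_of_isUnipPt hru) ⟨y, rfl⟩
    change w ≫ r = y ≫ r ≫ c at hw
    refine ⟨w, ?_⟩
    show w ≫ r ≫ j = g * (y ≫ r ≫ j) * g⁻¹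
    have h1 := hcs.1 (x := y ≫ r)
    simp only [Category.assoc] at h1
    rw [← h1, ← Category.assoc w, hw, Category.assoc, Category.assoc]⟩
  have htriv : ∀ y : PT ⟶ R, y = 1 := eq_one_of_normal_unip uH hUH q hq (r ≫ j) hn hru
  refine ⟨inferInstance, inferInstance, M₀, inferInstance, j, hj, hjo, haM, hsM, hcM,
    fun U _ u _ hcu hsu hconn hnu hnt => ?_⟩
  haveI := hcu
  haveI := hsu
  haveI := hconn
  obtain ⟨-, hlU, -, hmU, -⟩ := sub_props u
  haveI := hlU
  haveI := hmU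
  haveI : IsReduced U.left := isReduced_of_smooth_field U.hom
  refine isTrivialGrp_of_pts fun y => (cancel_mono u).mp ?_
  obtain ⟨w, hw⟩ := hrmax U u hcu hsu hconn ⟨fun z hz g => by
    obtain ⟨z', rfl⟩ := hz
    obtain ⟨y', hy'⟩ := hnu _ g z'
    exact ⟨y', hy'.symm⟩⟩ hnt ⟨y, rfl⟩
  change w ≫ r = y ≫ u at hw
  rw [← hw, htriv w, MonObj.one_comp, MonObj.one_comp]

end Groth.Agent.QuotQA27
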