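import Groth.Agent.QuotQA27.Eigen
import Groth.Agent.S11241
import Groth.Agent.Grosshans27.Restrict
import Groth.Agent.FpqcDescLib.Basic
import Groth.Agent.AGFLib.ObsRadical
import Groth.Agent.QuotQA27.Inv

/-! Functions invariant under a normal unipotent subgroup, and the translation action on points. -/

set_option autoImplicit false
set_option backward.isDefEq.respectTransparency false
set_option backward.isDefEq.respectTransparency.types false
set_option linter.style.haveILetI false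

universe u

open CategoryTheory MonoidalCategory CartesianMonoidalCategory MonObj GrpObj AlgebraicGeometry
open scoped TensorProduct

namespace Groth.Agent.QuotQA27

open GrpSchLib GrpSchLib.Kunneth GrpSchLib.LineGroups AGFLib

variable {k : Type u} [Field k] [IsAlgClosed k]

local notation "PT" => 𝟙_ (Over (Spec (CommRingCat.of k)))

omit [IsAlgClosed k] in
theorem rT_ev {G Q : Over (Spec (CommRingCat.of k))} [GrpObj G] [GrpObj Q] (q : G ⟶ Q) [IsMonHom q]
    (y : VecGrp.pt k k ⟶ G) (f : Fn Q) : rT y (ev q f) = ev q (rT (y ≫ q) f) := by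
  rw [ev_rT, rT, ev_ev, MonObj.mul_comp, Category.id_comp, Category.assoc]

omit [IsAlgClosed k] in
theorem lT_ev {G Q : Over (Spec (CommRingCat.of k))} [GrpObj G] [GrpObj Q] (q : G ⟶ Q) [IsMonHom q]
    (y : VecGrp.pt k k ⟶ G) (f : Fn Q) : lT y (ev q f) = ev q (lT (y ≫ q) f) := by
  rw [ev_lT, lT, ev_ev, MonObj.mul_comp, Category.id_comp, Category.assoc]

omit [IsAlgClosed k] in
theorem inv_lT {G : Over (Spec (CommRingCat.of k))} [GrpObj G] (y : VecGrp.pt k k ⟶ G) (f : Fn G) :
    ev (𝟙 G)⁻¹ (lT y f) = rT y⁻¹ (ev (𝟙 G)⁻¹ f) := by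
  rw [ev_lT, rT, ev_ev]
  congr 2
  rw [GrpObj.comp_inv, Category.comp_id, _root_.mul_inv_rev, GrpObj.comp_inv, _root_.inv_inv]

omit [IsAlgClosed k] in
theorem inv_inv_ev {G : Over (Spec (CommRingCat.of k))} [GrpObj G] (f : Fn G) :
    ev (𝟙 G)⁻¹ (ev (𝟙 G)⁻¹ f) = f := by
  rw [ev_ev, GrpObj.comp_inv, Category.comp_id, _root_.inv_inv, ev_id]

/-- The action of a point in the translation module. -/
theorem act_translMod {G H : Over (Spec (CommRingCat.of k))} [GrpObj G] [IsAffine G.left] [GrpObj H]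
    (i : H ⟶ G) [IsMonHom i] (g : 𝟙_ (Over (Spec (CommRingCat.of k))) ⟶ H) (f : Fn G) :
    S11241.act (translMod i) g f = rT (S11241.up g ≫ i) f := by
  apply (TensorProduct.lid k (Fn G)).symm.injective
  rw [TensorProduct.lid_symm_apply, TensorProduct.lid_symm_apply, ← S11241.rho_eq, translMod_apply]
  apply (prodFn k G).injective
  rw [prodFn_transl, prodFn_tmul, prodFn_tmul, map_one, map_one, _root_.one_mul, _root_.one_mul, ev_ev, shift, lift_snd,
    ev_rT]
  congr 3
  rw [← Category.assoc (toPt (VecGrp.pt k k ⊗ G)), ← hom_pt_ext (fst (VecGrp.pt k k) G)]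
  simp

variable {G U : Over (Spec (CommRingCat.of k))} [GrpObj G] [IsAffine G.left] [Smooth G.hom] [GrpObj U]
  [IsAffine U.left] [Smooth U.hom]

/-- The translates of a nonzero function span a function invariant under a normal unipotent subgroup. -/
theorem exists_unip_inv [ConnectedSpace U.left] (hU : Red.HasNoSubtorus k U) (u : U ⟶ G) [IsMonHom u]
    (hn : AlgGrp.IsNormalHom u) (f : Fn G) (hf : f ≠ 0) :
    ∃ f' ∈ Submodule.span k (Set.range fun y => lT y f), f' ≠ 0 ∧ AGF.IsRTransInv u f' := by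
  haveI : IsReduced G.left := isReduced_of_smooth_field G.hom
  haveI : IsReduced U.left := isReduced_of_smooth_field U.hom
  haveI := SolvGrp.isNilpotent_pts (SolvGrp.isUnipPt_of_hasNoSubtorus hU)
  let ι₁ : Fn G →ₐ[k] Fn G := ev (𝟙 G)⁻¹
  let ρ := translMod u
  let v := ι₁ f
  obtain ⟨S, hS, hSv⟩ := S11241.exists_finite_orbit ρ v
  haveI := hS
  let W : Submodule k (Fn G) := Submodule.span k (Set.range fun g => S11241.act ρ g v)
  haveI : Module.Finite k W := Submodule.finiteDimensional_of_le (show W ≤ S from Submodule.span_le.mpr (by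
    rintro _ ⟨g, rfl⟩; exact hSv g))
  have hWst : ∀ g, ∀ w ∈ W, S11241.act ρ g w ∈ W := fun g w hw => by
    induction hw using Submodule.span_induction with
    | mem x hx =>
      obtain ⟨h, rfl⟩ := hx
      exact Submodule.subset_span ⟨g * h, by simp only [map_mul, Module.End.mul_apply]⟩
    | zero => rw [map_zero]; exact W.zero_mem
    | add x y _ _ hx hy => rw [map_add]; exact W.add_mem hx hy
    | smul r x _ hx => rw [map_smul]; exact W.smul_mem r hx
  have hv0 : v ≠ 0 := fun h => hf (by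
    have h1 := congrArg ι₁ h
    simp only [v, ι₁, inv_inv_ev, map_zero] at h1
    exact h1)
  have hW0 : W ≠ ⊥ := fun e => hv0 (by
    have h1 : v ∈ W := Submodule.subset_span ⟨1, by simp⟩
    rwa [e, Submodule.mem_bot] at h1)
  obtain ⟨w, hwW, hw0, hwfix⟩ := S11241.exists_fixed (S11241.act ρ) W hW0 hWst fun g a ha =>
    S11241.act_unip ρ (SolvGrp.isUnipPt_of_hasNoSubtorus hU g) W hWst a ha
  have hWle : W ≤ (Submodule.span k (Set.range fun y => lT y f)).comap ι₁.toLinearMap := Submodule.span_le.mpr (by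
    rintro _ ⟨g, rfl⟩
    refine Submodule.subset_span ⟨(S11241.up g ≫ u)⁻¹, ?_⟩
    show lT (S11241.up g ≫ u)⁻¹ f = ι₁ (S11241.act ρ g v)
    rw [act_translMod, ← _root_.inv_inv (S11241.up g ≫ u), ← inv_lT, inv_inv_ev, _root_.inv_inv])
  refine ⟨ι₁ w, hWle hwW, fun h => hw0 ?_, ?_⟩
  · rw [← inv_inv_ev w]
    show ι₁ (ι₁ w) = 0
    rw [h, map_zero]
  · have hl : ∀ y : VecGrp.pt k k ⟶ U, lT (y ≫ u) (ι₁ w) = ι₁ w := fun y => by
      have h1 := hwfix (toPt PT ≫ y)⁻¹
      rw [act_translMod] at h1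
      have e : S11241.up ((toPt PT ≫ y)⁻¹) = y⁻¹ := by
        rw [S11241.up, GrpObj.comp_inv, ← Category.assoc, hom_pt_ext (toUnit (VecGrp.pt k k) ≫ toPt PT),
          ← hom_pt_ext (𝟙 _), Category.id_comp]
      rw [e, GrpObj.inv_comp] at h1
      conv_rhs => rw [← h1]
      show _ = ev (𝟙 G)⁻¹ (rT (y ≫ u)⁻¹ w)
      conv_rhs => rw [← inv_inv_ev w, ← inv_lT, inv_inv_ev]
    refine isRTransInv_of_pts u _ fun y => eq_of_pts fun x => ?_
    obtain ⟨y', hy'⟩ := hn _ x y
    rw [ev_eq_algebraMap, ev_eq_algebraMap, val_rT]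
    conv_rhs => rw [← hl y']
    congr 1
    apply algebraMap_fn_injective
    rw [← ev_eq_algebraMap, ← ev_eq_algebraMap, ev_lT, ← hom_pt_ext (𝟙 _), Category.id_comp, ← hy']
    congr 2
    group

omit [IsAlgClosed k] [IsAffine G.left] [Smooth G.hom] [IsAffine U.left] [Smooth U.hom] in
/-- Invariant functions descend to the quotient by a normal subgroup. -/
theorem exists_ev_kernel {Q : Over (Spec (CommRingCat.of k))} [GrpObj Q] (u : U ⟶ G) (q : G ⟶ Q) [IsMonHom q]
    (hq : FpqcDescLib.Covers q.left) (hker : AlgGrp.IsKernel u q) {f : Fn G} (hf : AGF.IsRTransInv u f) :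
    ∃ g : Fn Q, ev q g = f := by
  let Z : Over (Spec (CommRingCat.of k)) := VecGrp.pt k (Polynomial k)
  haveI : IsAffine Z.left := inferInstanceAs (IsAffine (Spec _))
  let e : Polynomial k ≃ₐ[k] Fn Z := spEquiv (k := k) (Polynomial k)
  obtain ⟨v, hv⟩ := exists_hom_ev (X := Z) (T := G) ((Polynomial.aeval f).comp e.symm.toAlgHom)
  have hvX : ev v (e Polynomial.X) = f := by rw [hv]; simp
  obtain ⟨m, hm, -⟩ := hq.over_desc v fun T a b hab => ext_ev (by
    have hn : (b⁻¹ * a) ≫ q = toUnit T ≫ η[Q] := by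
      rw [MonObj.mul_comp, GrpObj.inv_comp, hab, inv_mul_cancel, Hom.one_def]
    let n := hker.lift (b⁻¹ * a) (toUnit T) hn
    have ha : a = b * (n ≫ u) := by rw [hker.lift_fst]; group
    have h1 : ev a f = ev b f := ha ▸ (isRTransInv_iff u f).1 hf T b n
    have e2 : (ev (a ≫ v)).comp e.toAlgHom = (ev (b ≫ v)).comp e.toAlgHom := by
      refine Polynomial.algHom_ext ?_
      show ev (a ≫ v) (e Polynomial.X) = ev (b ≫ v) (e Polynomial.X)
      rw [← ev_ev, ← ev_ev, hvX, h1]
    refine AlgHom.ext fun z => ?_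
    simpa using DFunLike.congr_fun e2 (e.symm z))
  exact ⟨ev m (e Polynomial.X), by rw [ev_ev, hm, hvX]⟩

end Groth.Agent.QuotQA27
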